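import Cfsg.Agent.Lib.CharDegrees.ClassCount.OPairs
import Cfsg.Agent.Lib.CharDegrees.ClassCount.SpTuples

/-!
Orthogonal versions of the splitting and the comparison of unipotent parts.
-/

set_option autoImplicit false
set_option linter.unusedSectionVars false

namespace CfsgLib.CharDegrees.ClassCount.Orth

open Module Submodule
open CfsgLib.CharDegrees.ClassCount.Sp (Iso Split eq_of_sub_inv skew_sub_inv)

universe u v

variable {F : Type u} [Field F] {V : Type v} [AddCommGroup V] [Module F V]
variable {V' : Type*} [AddCommGroup V'] [Module F V']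

/-- Equal data for the differences with the inverses give isometric unipotent pairs. -/
theorem iso_of_data {p : ℕ} [Fact p.Prime] [CharP F p] (hp2 : p ≠ 2) {δ : F} (hδ : δ ≠ 0)
    {B : LinearMap.BilinForm F V} {B' : LinearMap.BilinForm F V'} (u : V ≃ₗ[F] V) (u' : V' ≃ₗ[F] V')
    (hu : ∀ x y, B (u x) (u y) = B x y) (hu' : ∀ x y, B' (u' x) (u' y) = B' x y)
    {W : Submodule F V} {W' : Submodule F V'} (hW : ∀ x ∈ W, u x ∈ W) (hW' : ∀ x ∈ W', u' x ∈ W')
    (hWs : ∀ x ∈ W, u.symm x ∈ W) (hWs' : ∀ x ∈ W', u'.symm x ∈ W') {D : ℕ}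
    (hk : ∀ x ∈ W, ((u.toLinearMap - 1) ^ D) x = 0) (hk' : ∀ x ∈ W', ((u'.toLinearMap - 1) ^ D) x = 0)
    {Dt : Multiset Blk} (h : HasData δ B (u.toLinearMap - u.symm.toLinearMap) W Dt)
    (h' : HasData δ B' (u'.toLinearMap - u'.symm.toLinearMap) W' Dt) :
    Iso B B' u.toLinearMap u'.toLinearMap W W' := by
  obtain ⟨T, hT, hTN⟩ := h.exists_isometry hδ (skew_sub_inv B u hu) (skew_sub_inv B' u' hu') h'
  refine ⟨T, hT, ?_⟩
  let a : W →ₗ[F] W := u.toLinearMap.restrict hW
  let a' : W →ₗ[F] W := u.symm.toLinearMap.restrict hWs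
  let c : W' →ₗ[F] W' := u'.toLinearMap.restrict hW'
  let c' : W' →ₗ[F] W' := u'.symm.toLinearMap.restrict hWs'
  let U : (Module.End F W')ˣ :=
    ⟨T.toLinearMap ∘ₗ a ∘ₗ T.symm.toLinearMap, T.toLinearMap ∘ₗ a' ∘ₗ T.symm.toLinearMap,
      LinearMap.ext fun x => by
        simp only [Module.End.mul_apply, LinearMap.comp_apply, LinearEquiv.coe_coe, LinearEquiv.symm_apply_apply]
        rw [show a (a' (T.symm x)) = T.symm x from Subtype.ext (u.apply_symm_apply _)]
        simp,
      LinearMap.ext fun x => by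
        simp only [Module.End.mul_apply, LinearMap.comp_apply, LinearEquiv.coe_coe, LinearEquiv.symm_apply_apply]
        rw [show a' (a (T.symm x)) = T.symm x from Subtype.ext (u.symm_apply_apply _)]
        simp⟩
  let U' : (Module.End F W')ˣ :=
    ⟨c, c', LinearMap.ext fun x => Subtype.ext (u'.apply_symm_apply _),
      LinearMap.ext fun x => Subtype.ext (u'.symm_apply_apply _)⟩
  have hU' : ((U' : Module.End F W') - 1) ^ D = 0 := by
    have e : ∀ (n : ℕ) (x : W'), ((((U' : Module.End F W') - 1) ^ n) x : V') = ((u'.toLinearMap - 1) ^ n) (x : V') := by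
      intro n
      induction n with
      | zero => intro x; rfl
      | succ n ih =>
        intro x
        rw [pow_succ, pow_succ, Module.End.mul_apply, Module.End.mul_apply, ih]
        rfl
    exact LinearMap.ext fun x => Subtype.ext ((e D x).trans (hk' _ x.2))
  have hU : ((U : Module.End F W') - 1) ^ D = 0 := by
    have e : ∀ (n : ℕ) (x : W), ((((U : Module.End F W') - 1) ^ n) (T x)) = T (((a - 1) ^ n) x) := by
      intro n
      induction n with
      | zero => intro x; rfl
      | succ n ih =>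
        intro x
        rw [pow_succ, pow_succ, Module.End.mul_apply, Module.End.mul_apply, ← ih]
        congr 1
        simp [U]
    have e2 : ∀ (n : ℕ) (x : W), ((((a : Module.End F W) - 1) ^ n) x : V) = ((u.toLinearMap - 1) ^ n) (x : V) := by
      intro n
      induction n with
      | zero => intro x; rfl
      | succ n ih =>
        intro x
        rw [pow_succ, pow_succ, Module.End.mul_apply, Module.End.mul_apply, ih]
        rfl
    refine LinearMap.ext fun x => ?_
    obtain ⟨y, rfl⟩ := T.surjective x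
    rw [e, show ((a - 1) ^ D) y = 0 from Subtype.ext ((e2 D y).trans (hk _ y.2)), map_zero]
    simp
  have hdiff : (U : Module.End F W') - ↑U⁻¹ = (U' : Module.End F W') - ↑U'⁻¹ := by
    refine LinearMap.ext fun x => ?_
    obtain ⟨y, rfl⟩ := T.surjective x
    apply Subtype.ext
    have := hTN y ((a - a') y) rfl
    simp only [U, U', Units.inv_mk, LinearMap.sub_apply, LinearMap.comp_apply, LinearEquiv.coe_coe,
      LinearEquiv.symm_apply_apply, ← map_sub] at this ⊢
    exact this
  have := eq_of_sub_inv (p := p) hp2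
    (by rw [← map_natCast (algebraMap F (Module.End F W')), CharP.cast_eq_zero, map_zero]) U U' hU hU' hdiff
  intro x y hxy
  have h1 := congrArg Subtype.val (LinearMap.congr_fun (congrArg Units.val this) (T x))
  simp only [U, U', LinearMap.comp_apply, LinearEquiv.coe_coe, LinearEquiv.symm_apply_apply] at h1
  rw [show y = a x from Subtype.ext hxy]
  exact h1

/-- Splitting off a generalised eigenspace. -/
theorem exists_split_symm [FiniteDimensional F V] {B : LinearMap.BilinForm F V} (hsym : ∀ x y, B x y = B y x) (g : V ≃ₗ[F] V)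
    (hg : ∀ x y, B (g x) (g y) = B x y) {ε : F} (hε : ε * ε = 1) {W : Submodule F V}
    (hW : ∀ x ∈ W, g x ∈ W ∧ g.symm x ∈ W) (hnd : ∀ x ∈ W, (∀ y ∈ W, B x y = 0) → x = 0) :
    ∃ K R, Split B g ε W K R (finrank F V) := by
  set D := finrank F V with hD
  set h : Module.End F V := g.toLinearMap - ε • 1 with hh
  have hha : ∀ x, h x = g x - ε • x := fun x => rfl
  have hh' : ∀ x y, B x (h y) = B (g.symm x - ε • x) y := fun x y => by
    rw [hha, map_sub, map_smul, map_sub, LinearMap.sub_apply, map_smul, LinearMap.smul_apply,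
      show B (g.symm x) y = B x (g y) by rw [← hg, g.apply_symm_apply]]
  have hcs : ∀ x, h (g.symm x) = g.symm (h x) := fun x => by simp [hha]
  have hcg : ∀ x, h (g x) = g (h x) := fun x => by simp [hha]
  have hcpow : ∀ (n : ℕ) (x : V), (h ^ n) (g x) = g ((h ^ n) x) ∧ (h ^ n) (g.symm x) = g.symm ((h ^ n) x) := by
    intro n
    induction n with
    | zero => intro x; simp
    | succ n ih =>
      intro x
      simp only [pow_succ, Module.End.mul_apply, hcg, hcs, ih, and_self]
  have hWh : ∀ (n : ℕ), ∀ x ∈ W, (h ^ n) x ∈ W := by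
    intro n
    induction n with
    | zero => intro x hx; simpa using hx
    | succ n ih =>
      intro x hx
      rw [pow_succ', Module.End.mul_apply, hha]
      exact sub_mem (hW _ (ih x hx)).1 (W.smul_mem _ (ih x hx))
  have hstab : ∀ x, (h ^ D) ((h ^ D) x) = 0 → (h ^ D) x = 0 := fun x hx => by
    have e := Module.End.ker_pow_eq_ker_pow_finrank_of_le (f := h) (show D ≤ D + D by omega)
    have : x ∈ LinearMap.ker (h ^ (D + D)) := by rw [LinearMap.mem_ker, pow_add, Module.End.mul_apply, hx]
    rw [e] at this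
    exact LinearMap.mem_ker.1 this
  let K := W ⊓ LinearMap.ker (h ^ D)
  let R := W.map (h ^ D)
  have hKR : Disjoint K R := by
    refine Submodule.disjoint_def.2 fun x hx hx' => ?_
    obtain ⟨w, -, rfl⟩ := Submodule.mem_map.1 hx'
    exact hstab w (LinearMap.mem_ker.1 hx.2)
  have horth : ∀ x ∈ K, ∀ y ∈ R, B x y = 0 ∧ B y x = 0 := by
    intro x hx y hy
    obtain ⟨w, -, rfl⟩ := Submodule.mem_map.1 hy
    have key : ∀ (n : ℕ) (x : V), (h ^ n) x = 0 → ∀ w, B x ((h ^ n) w) = 0 := by
      intro n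
      induction n with
      | zero => intro x hx w; simp at hx; simp [hx]
      | succ n ih =>
        intro x hx w
        rw [pow_succ', Module.End.mul_apply, hh']
        refine ih _ ?_ w
        have e : g.symm x - ε • x = (-ε) • g.symm (h x) := by
          rw [hha, map_sub, map_smul, g.symm_apply_apply, smul_sub, smul_smul, neg_mul, hε, neg_smul, neg_smul, one_smul]
          abel
        rw [e, map_smul, (hcpow n _).2, ← Module.End.mul_apply, ← pow_succ, hx, map_zero, smul_zero]
    have h1 := key D x (LinearMap.mem_ker.1 hx.2) w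
    exact ⟨h1, by rw [hsym, h1]⟩
  have hRle : R ≤ W := Submodule.map_le_iff_le_comap.2 fun x hx => hWh D x hx
  have hsup : K ⊔ R = W := by
    refine le_antisymm (sup_le inf_le_left hRle) fun w hw => ?_
    have hRR : ∀ r ∈ R, (h ^ D) r ∈ R := fun r hr => Submodule.mem_map.2 ⟨r, hRle hr, rfl⟩
    have hinj : Function.Injective ((h ^ D).restrict hRR) := (injective_iff_map_eq_zero _).2 fun r hr =>
      Subtype.ext (Submodule.disjoint_def.1 hKR _
        ⟨hRle r.2, LinearMap.mem_ker.2 (congrArg Subtype.val hr)⟩ r.2)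
    obtain ⟨r, hr⟩ := LinearMap.surjective_of_injective hinj ⟨(h ^ D) w, Submodule.mem_map.2 ⟨w, hw, rfl⟩⟩
    refine Submodule.mem_sup.2 ⟨w - r, ⟨sub_mem hw (hRle r.2), LinearMap.mem_ker.2 ?_⟩, r, r.2, by abel⟩
    have := congrArg Subtype.val hr
    rw [LinearMap.coe_restrict_apply] at this
    rw [map_sub, this, sub_self]
  refine ⟨K, R, inf_le_left, hRle, fun x hx => ⟨⟨(hW x hx.1).1, ?_⟩, ⟨(hW x hx.1).2, ?_⟩⟩, fun x hx => ?_, ?_, ?_,
    hKR, hsup, horth, fun x hx => LinearMap.mem_ker.1 hx.2, fun x hx hxe => ?_⟩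
  · show g x ∈ LinearMap.ker (h ^ D)
    rw [LinearMap.mem_ker, (hcpow D x).1, LinearMap.mem_ker.1 hx.2, map_zero]
  · show g.symm x ∈ LinearMap.ker (h ^ D)
    rw [LinearMap.mem_ker, (hcpow D x).2, LinearMap.mem_ker.1 hx.2, map_zero]
  · obtain ⟨w, hw, rfl⟩ := Submodule.mem_map.1 hx
    exact ⟨Submodule.mem_map.2 ⟨g w, (hW w hw).1, (hcpow D w).1⟩,
      Submodule.mem_map.2 ⟨g.symm w, (hW w hw).2, (hcpow D w).2⟩⟩
  · intro x hx hxy
    refine hnd x hx.1 fun y hy => ?_
    obtain ⟨a, ha, b, hb, rfl⟩ := Submodule.mem_sup.1 (hsup.symm ▸ hy : y ∈ K ⊔ R)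
    rw [map_add, hxy a ha, (horth x hx b hb).1, add_zero]
  · intro x hx hxy
    refine hnd x (hRle hx) fun y hy => ?_
    obtain ⟨a, ha, b, hb, rfl⟩ := Submodule.mem_sup.1 (hsup.symm ▸ hy : y ∈ K ⊔ R)
    rw [map_add, (horth a ha x hx).2, hxy b hb, add_zero]
  · refine Submodule.disjoint_def.1 hKR x ⟨hRle hx, LinearMap.mem_ker.2 ?_⟩ hx
    have h0 : h x = 0 := by rw [hha, hxe, sub_self]
    rcases Nat.eq_zero_or_pos D with h | h
    · have : Subsingleton V := Module.finrank_zero_iff.1 (hD ▸ h)
      exact Subsingleton.elim _ _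
    · rw [← Nat.sub_add_cancel h, pow_succ, Module.End.mul_apply, h0, map_zero]

end CfsgLib.CharDegrees.ClassCount.Orth
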